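import Groth.Agent.Lib.HFlatten4.Main

/-!
# Assembly of flattening by almost blow-ups
-/

set_option autoImplicit false
set_option backward.isDefEq.respectTransparency false
universe u

open CategoryTheory CategoryTheory.Limits AlgebraicGeometry

noncomputable section

namespace GrothLib.HFlatten4

set_option maxHeartbeats 1000000 in
/-- Flattening by almost blow-ups over a quasi-compact and quasi-separated base. -/
theorem exists_almostBlowUp_flattening {X Y : Scheme.{u}} [CompactSpace Y] [QuasiSeparatedSpace Y] (f : X ⟶ Y)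
    [LocallyOfFinitePresentation f] [QuasiCompact f] [QuasiSeparated f] (V : Y.Opens)
    (hV : IsCompact (V : Set Y)) (hf : Flat (f ∣_ V)) :
    ∃ (Z Y' E T X' D : Scheme.{u}) (iZ : Z ⟶ Y) (bY : Y' ⟶ Y) (eE : E ⟶ Y') (πE : E ⟶ Z) (iT : T ⟶ X)
      (bX : X' ⟶ X) (eD : D ⟶ X') (πD : D ⟶ T) (fZ : T ⟶ Z) (f' : X' ⟶ Y') (fE : D ⟶ E),
      _root_.HTop.IsAlmostBlowUpSquare eE πE bY iZ ∧ _root_.HTop.IsAlmostBlowUpSquare eD πD bX iT ∧
      IsPullback fZ iT iZ f ∧ IsPullback fE eD eE f' ∧ f' ≫ bY = bX ≫ f ∧ πD ≫ fZ = fE ≫ πE ∧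
      iZ ⁻¹ᵁ V = ⊥ ∧ Flat f' ∧ LocallyOfFinitePresentation f' := by
  haveI := hf
  obtain ⟨X₀, Y₀, f₀, gX, g, V₀, _, _, _, _, hsq, rfl, _⟩ := exists_descend f V hV
  obtain ⟨Z₀, S, i, b, W, w, hdisj, h0, h1, hflat, hfp⟩ := exists_model f₀ V₀
  let bW := w ≫ pullback.snd b f₀
  let Z := pullback i g
  let Y' := pullback b g
  let iZ : Z ⟶ Y := pullback.snd i g
  let bY : Y' ⟶ Y := pullback.snd b g
  let T := pullback (pullback.snd i f₀) gX
  let X' := pullback bW gX
  let iT : T ⟶ X := pullback.snd _ _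
  let bX : X' ⟶ X := pullback.snd _ _
  let f' : X' ⟶ Y' := pullback.lift (pullback.fst bW gX ≫ w ≫ pullback.fst b f₀) (bX ≫ f) (by
    have := congrArg (· ≫ f₀) (pullback.condition (f := bW) (g := gX))
    simp only [Category.assoc, bW, hsq.w] at this
    simp only [Category.assoc, pullback.condition, bX]
    exact this)
  let fZ : T ⟶ Z := pullback.lift (pullback.fst _ _ ≫ pullback.fst i f₀) (iT ≫ f) (by
    have := congrArg (· ≫ f₀) (pullback.condition (f := pullback.snd i f₀) (g := gX))
    simp only [Category.assoc, hsq.w] at this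
    simp only [Category.assoc, pullback.condition, iT]
    exact this)
  have hZ : IsPullback fZ iT iZ f := by
    refine IsPullback.of_right ?_ (pullback.lift_snd _ _ _) (IsPullback.of_hasPullback i g)
    rw [pullback.lift_fst]
    rw [← hsq.w]
    exact (IsPullback.of_hasPullback (pullback.snd i f₀) gX).paste_horiz (IsPullback.of_hasPullback i f₀)
  have hflat' : Flat f' ∧ LocallyOfFinitePresentation f' := by
    have h3 : IsPullback (pullback.fst bW gX) f' (w ≫ pullback.fst b f₀) (pullback.fst b g) := by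
      refine IsPullback.of_bot ?_ (pullback.lift_fst _ _ _).symm (IsPullback.of_hasPullback b g)
      rw [pullback.lift_snd, Category.assoc, pullback.condition, ← Category.assoc w]
      exact (IsPullback.of_hasPullback bW gX).paste_vert hsq
    exact ⟨MorphismProperty.of_isPullback h3 hflat, MorphismProperty.of_isPullback h3 hfp⟩
  let fE : pullback bX iT ⟶ pullback bY iZ := pullback.map bX iT bY iZ f' fZ f
    (pullback.lift_snd _ _ _).symm (pullback.lift_snd _ _ _).symm
  have hE : IsPullback fE (pullback.fst bX iT) (pullback.fst bY iZ) f' := by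
    refine IsPullback.of_right ?_ (pullback.lift_fst _ _ _) (IsPullback.of_hasPullback bY iZ).flip
    rw [pullback.lift_snd, show f' ≫ bY = bX ≫ f from pullback.lift_snd _ _ _]
    exact (IsPullback.of_hasPullback bX iT).flip.paste_horiz hZ
  refine ⟨Z, Y', _, T, X', _, iZ, bY, pullback.fst bY iZ, pullback.snd bY iZ, iT, bX, pullback.fst bX iT,
    pullback.snd bX iT, fZ, f', fE,
    square_baseChange h0 g (IsPullback.of_hasPullback b g) (IsPullback.of_hasPullback i g),
    square_baseChange h1 gX (IsPullback.of_hasPullback bW gX) (IsPullback.of_hasPullback _ gX),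
    hZ, hE, pullback.lift_snd _ _ _, (pullback.lift_snd _ _ _).symm, ?_, hflat'.1, hflat'.2⟩
  ext z
  refine ⟨fun hz => ?_, fun hz => hz.elim⟩
  have h2 : pullback.fst i g z ∈ i ⁻¹ᵁ V₀ := by
    show i (pullback.fst i g z) ∈ V₀
    rw [← Scheme.Hom.comp_apply, pullback.condition, Scheme.Hom.comp_apply]
    exact hz
  rw [hdisj] at h2
  exact h2.elim

end GrothLib.HFlatten4
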