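import Groth.Agent.S8982
import Groth.Agent.S8983
import Groth.Agent.S1273
import Groth.Agent.S0590
import Groth.Agent.S0591
import Groth.Agent.S2075
import Groth.Agent.Lib.ABU25.Basic
import Groth.Agent.Lib.ABU25.PhSheaf
import Groth.Agent.Lib.BlowUpProper.Basic
import Groth.Agent.Lib.FlatBlow1.Strict

/-!
# Flattening by almost blow-ups
-/

set_option autoImplicit false
set_option backward.isDefEq.respectTransparency false
universe u

open CategoryTheory CategoryTheory.Limits AlgebraicGeometry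

noncomputable section

namespace GrothLib.HFlatten4

variable {X Y X' Z E : Scheme.{u}}

/-- An almost blow-up square with chosen fibre products after base change. -/
theorem square_baseChange {e : E ⟶ X'} {π : E ⟶ Z} {b : X' ⟶ X} {i : Z ⟶ X}
    (h : _root_.HTop.IsAlmostBlowUpSquare e π b i) (g : Y ⟶ X) {X₁ Z₁ : Scheme.{u}} {b₁ : X₁ ⟶ Y}
    {gX : X₁ ⟶ X'} (hX : IsPullback gX b₁ b g) {i₁ : Z₁ ⟶ Y} {gZ : Z₁ ⟶ Z} (hZ : IsPullback gZ i₁ i g) :
    _root_.HTop.IsAlmostBlowUpSquare (pullback.fst b₁ i₁) (pullback.snd b₁ i₁) b₁ i₁ := by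
  have w : (pullback.fst b₁ i₁ ≫ gX) ≫ b = (pullback.snd b₁ i₁ ≫ gZ) ≫ i := by
    rw [Category.assoc, hX.w, pullback.condition_assoc, Category.assoc, hZ.w]
  refine Groth.Agent.S8982.result h g hX hZ (gE := h.isPullback.lift _ _ w) ?_ pullback.condition.symm
  refine IsPullback.of_right ?_ (h.isPullback.lift_fst _ _ w) h.isPullback.flip
  rw [h.isPullback.lift_snd]
  exact (IsPullback.of_hasPullback b₁ i₁).flip.paste_horiz hZ |>.of_iso (Iso.refl _) (Iso.refl _) (Iso.refl _)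
    (Iso.refl _) (by simp) (by simp [hX.w.symm, pullback.condition_assoc]) (by simp) (by simp [hX.w.symm])

/-- Flattening over a Noetherian base. -/
theorem exists_model {X Y : Scheme.{u}} [IsNoetherian Y] (f : X ⟶ Y) [LocallyOfFiniteType f] [QuasiCompact f]
    [QuasiSeparated f] (V : Y.Opens) [Flat (f ∣_ V)] :
    ∃ (Z S : Scheme.{u}) (i : Z ⟶ Y) (b : S ⟶ Y) (W : Scheme.{u}) (w : W ⟶ pullback b f),
      i ⁻¹ᵁ V = ⊥ ∧ _root_.HTop.IsAlmostBlowUpSquare (pullback.fst b i) (pullback.snd b i) b i ∧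
      _root_.HTop.IsAlmostBlowUpSquare (pullback.fst (w ≫ pullback.snd b f) (pullback.snd i f))
        (pullback.snd (w ≫ pullback.snd b f) (pullback.snd i f)) (w ≫ pullback.snd b f) (pullback.snd i f) ∧
      Flat (w ≫ pullback.fst b f) ∧ LocallyOfFinitePresentation (w ≫ pullback.fst b f) := by
  haveI : LocallyOfFinitePresentation (f ∣_ V) := inferInstance
  obtain ⟨I, S, b, hb, hadm, key⟩ :=
    Groth.Agent.S1273.result f V (TopologicalSpace.NoetherianSpace.isCompact _)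
  let i := I.subschemeι
  have hi : i.ker = I := I.ker_subschemeι
  haveI : IsProper b := GrothLib.BlowUpProper.isProper_of_isBlowUp hb
  haveI : LocallyOfFinitePresentation b := inferInstance
  have hlp : _root_.HTop.IsLocPrincipal (i.ker.comap b) := by
    rw [hi]
    intro x
    obtain ⟨U, hx, c, -, hc⟩ := hb.1 x
    exact ⟨U, hx, c, hc⟩
  have h0 : _root_.HTop.IsAlmostBlowUpSquare (pullback.fst b i) (pullback.snd b i) b i := by
    refine ⟨inferInstance, inferInstance, IsPullback.of_hasPullback _ _, hlp, inferInstance, inferInstance,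
      (GrothLib.ABU25.isBlowUp_iff_isUniv _ _ hlp).2 fun T t ht => hb.2 T t ?_⟩
    rwa [hi] at ht
  let p₁ := pullback.snd b f
  have hX := square_baseChange h0 f (IsPullback.of_hasPullback b f) (IsPullback.of_hasPullback i f)
  haveI : IsLocallyNoetherian X := LocallyOfFiniteType.isLocallyNoetherian f
  haveI : IsLocallyNoetherian (pullback b f) := LocallyOfFiniteType.isLocallyNoetherian (p₁ ≫ f)
  have hE : BlowUp.IsFiniteTypeIdeal ((I.comap f).comap p₁) := fun U => by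
    haveI : IsNoetherianRing Γ(pullback b f, U.1) := IsLocallyNoetherian.component_noetherian U
    exact IsNoetherian.noetherian _
  let Es := (I.comap f).comap p₁
  let J := _root_.HTop.supportedOn Es
  have hkey := key _ p₁ (pullback.fst b f) (IsPullback.of_hasPullback b f).flip J
    fun U a => (GrothLib.FlatBlow1.killed_iff_mem_ker hE U a).symm
  haveI : LocallyOfFinitePresentation J.subschemeι := inferInstance
  have hkT : (pullback.snd i f).ker = I.comap f := by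
    have h := Scheme.IdealSheafData.ker_fst_of_isClosedImmersion i f
    rw [hi] at h
    rw [← h, ← Scheme.Hom.ker_comp_of_isIso (pullbackSymmetry i f).inv (pullback.snd i f)]
    congr 1
    simp
  have hle : J.subschemeι.ker ≤ _root_.HTop.supportedOn ((pullback.snd i f).ker.comap p₁) := by
    rw [hkT, J.ker_subschemeι]
  have h1 := (Groth.Agent.S8983.result hX J.subschemeι
    (IsPullback.of_hasPullback J.subschemeι (pullback.fst p₁ (pullback.snd i f))).flip).1 hle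
  refine ⟨_, S, i, b, _, J.subschemeι, ?_, h0, ?_, hkey.1, hkey.2.1⟩
  · ext z
    refine ⟨fun hz => ?_, fun hz => hz.elim⟩
    have h2 : i z ∈ (I.support : Set Y) := by
      rw [← Scheme.IdealSheafData.range_subschemeι]; exact Set.mem_range_self z
    exact (Set.disjoint_left.1 hadm.2 h2 hz).elim
  · exact square_baseChange h1 (𝟙 X) (IsPullback.of_horiz_isIso (fst := 𝟙 _) ⟨by simp [p₁]⟩)
      (IsPullback.of_horiz_isIso (fst := 𝟙 _) ⟨by simp⟩)

set_option maxHeartbeats 1000000 in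
/-- A flat-over-an-open morphism of finite presentation comes from a Noetherian base. -/
theorem exists_descend {X Y : Scheme.{u}} [CompactSpace Y] [QuasiSeparatedSpace Y] (f : X ⟶ Y)
    [LocallyOfFinitePresentation f] [QuasiCompact f] [QuasiSeparated f] (V : Y.Opens)
    (hV : IsCompact (V : Set Y)) [Flat (f ∣_ V)] :
    ∃ (X₀ Y₀ : Scheme.{u}) (f₀ : X₀ ⟶ Y₀) (gX : X ⟶ X₀) (g : Y ⟶ Y₀) (V₀ : Y₀.Opens),
      IsNoetherian Y₀ ∧ LocallyOfFinitePresentation f₀ ∧ QuasiCompact f₀ ∧ QuasiSeparated f₀ ∧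
      IsPullback gX f f₀ g ∧ g ⁻¹ᵁ V₀ = V ∧ Flat (f₀ ∣_ V₀) := by
  obtain ⟨I, _, _, _, D, c₀, hc₀, haff, hD, ⟨eY⟩⟩ := Groth.Agent.S0590.result Y
  haveI : ∀ (i j : Iᵒᵖ) (f : i ⟶ j), IsAffineHom (D.map f) := haff
  haveI : ∀ j, CompactSpace (D.obj j) := fun j => (hD j).1
  haveI : IsCofiltered Iᵒᵖ := inferInstance
  let c : Cone D := c₀.extend eY.inv
  have hc : IsLimit c := hc₀.extendIso eY.inv
  haveI hN : ∀ j, IsLocallyNoetherian (D.obj j) := fun j => by
    haveI := (hD j).2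
    haveI : IsNoetherianRing (CommRingCat.of (ULift.{u} ℤ)) := isNoetherianRing_of_ringEquiv ℤ ULift.ringEquiv.symm
    exact LocallyOfFiniteType.isLocallyNoetherian (Limits.IsTerminal.from specULiftZIsTerminal (D.obj j))
  haveI : ∀ j, IsNoetherian (D.obj j) := fun j => {}
  haveI : ∀ j, QuasiSeparatedSpace (D.obj j) := fun j => inferInstance
  obtain ⟨i₁, X₁, f₁, gX₁, hfp, hqc, hqs, h₁⟩ := Groth.Agent.S0591.result D c hc X f
  obtain ⟨i₂, V₂, -, hV₂⟩ := exists_preimage_eq D c hc V hV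
  let i₀ := IsCofiltered.min i₁ i₂
  let φ₁ : i₀ ⟶ i₁ := IsCofiltered.minToLeft i₁ i₂
  let φ₂ : i₀ ⟶ i₂ := IsCofiltered.minToRight i₁ i₂
  let X₀ := pullback f₁ (D.map φ₁)
  let f₀ : X₀ ⟶ D.obj i₀ := pullback.snd _ _
  let gX₀ : X ⟶ X₀ := pullback.lift gX₁ (f ≫ c.π.app i₀) (by rw [Category.assoc, c.w]; exact h₁.w)
  have h₀ : IsPullback gX₀ f f₀ (c.π.app i₀) := by
    refine IsPullback.of_right ?_ (pullback.lift_snd _ _ _) (IsPullback.of_hasPullback f₁ (D.map φ₁))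
    rw [pullback.lift_fst, c.w]
    exact h₁
  let V₀ : (D.obj i₀).Opens := D.map φ₂ ⁻¹ᵁ V₂
  have hV₀ : c.π.app i₀ ⁻¹ᵁ V₀ = V := by
    rw [← Scheme.Hom.comp_preimage, c.w, hV₂]
  haveI : LocallyOfFinitePresentation f₀ := inferInstance
  haveI : QuasiCompact f₀ := inferInstance
  haveI : QuasiSeparated f₀ := inferInstance
  haveI : CompactSpace X₀ := QuasiCompact.compactSpace_of_compactSpace f₀
  haveI : QuasiSeparatedSpace X₀ := quasiSeparatedSpace_of_quasiSeparated f₀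
  haveI : IsLocallyNoetherian X₀ := LocallyOfFiniteType.isLocallyNoetherian f₀
  haveI : IsNoetherian X₀ := {}
  haveI : CompactSpace (V₀ : Scheme.{u}) := isCompact_iff_compactSpace.1 (TopologicalSpace.NoetherianSpace.isCompact _)
  haveI : CompactSpace ((f₀ ⁻¹ᵁ V₀ : X₀.Opens) : Scheme.{u}) := isCompact_iff_compactSpace.1 (TopologicalSpace.NoetherianSpace.isCompact _)
  haveI : QuasiSeparatedSpace (V₀ : Scheme.{u}) := inferInstance
  subst hV₀
  have hY : IsPullback (c.π.app i₀ ∣_ V₀) (c.π.app i₀ ⁻¹ᵁ V₀).ι V₀.ι (c.π.app i₀) :=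
    isPullback_morphismRestrict _ _
  let V := c.π.app i₀ ⁻¹ᵁ V₀
  let q : (f ⁻¹ᵁ V).toScheme ⟶ (f₀ ⁻¹ᵁ V₀).toScheme :=
    IsOpenImmersion.lift (f₀ ⁻¹ᵁ V₀).ι ((f ⁻¹ᵁ V).ι ≫ gX₀) (by
      rintro _ ⟨x, rfl⟩
      rw [Scheme.Opens.range_ι]
      show f₀ (((f ⁻¹ᵁ V).ι ≫ gX₀) x) ∈ V₀
      rw [← Scheme.Hom.comp_apply, Category.assoc, h₀.w, Scheme.Hom.comp_apply, Scheme.Hom.comp_apply]
      exact x.2)
  have hq : q ≫ (f₀ ⁻¹ᵁ V₀).ι = (f ⁻¹ᵁ V).ι ≫ gX₀ := IsOpenImmersion.lift_fac _ _ _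
  have hXV : IsPullback q (f ∣_ V) (f₀ ∣_ V₀) (c.π.app i₀ ∣_ V₀) := by
    refine IsPullback.of_right ?_ ?_ (isPullback_morphismRestrict f₀ V₀).flip
    · rw [hq, morphismRestrict_ι]
      exact ((isPullback_morphismRestrict f V).paste_vert h₀.flip).flip
    · rw [← cancel_mono V₀.ι, Category.assoc, morphismRestrict_ι, reassoc_of% hq, h₀.w, Category.assoc,
        morphismRestrict_ι, morphismRestrict_ι_assoc]
  obtain ⟨i, φ, Xi, Vi, fi, gi, pV, pX, hVi, hXi, hflat⟩ :=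
    Groth.Agent.S2075.result D c hc i₀ (f₀ ∣_ V₀) V₀.ι (f ∣_ V) V.ι _ q hY hXV
  let f₂ : pullback f₀ (D.map φ) ⟶ D.obj i := pullback.snd _ _
  refine ⟨_, D.obj i, f₂, pullback.lift gX₀ (f ≫ c.π.app i) (by rw [Category.assoc, c.w]; exact h₀.w),
    c.π.app i, D.map φ ⁻¹ᵁ V₀, inferInstance, inferInstance, inferInstance, inferInstance,
    IsPullback.of_right (by rw [pullback.lift_fst, c.w]; exact h₀) (pullback.lift_snd _ _ _)
      (IsPullback.of_hasPullback f₀ (D.map φ)), by rw [← Scheme.Hom.comp_preimage, c.w], ?_⟩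
  let W := D.map φ ⁻¹ᵁ V₀
  let eW := hVi.isoIsPullback _ _ (isPullback_morphismRestrict (D.map φ) V₀)
  let qW : (f₂ ⁻¹ᵁ W).toScheme ⟶ (f₀ ⁻¹ᵁ V₀).toScheme :=
    IsOpenImmersion.lift (f₀ ⁻¹ᵁ V₀).ι ((f₂ ⁻¹ᵁ W).ι ≫ pullback.fst f₀ (D.map φ)) (by
      rintro _ ⟨x, rfl⟩
      rw [Scheme.Opens.range_ι]
      show f₀ (((f₂ ⁻¹ᵁ W).ι ≫ pullback.fst f₀ (D.map φ)) x) ∈ V₀
      rw [← Scheme.Hom.comp_apply, Category.assoc, pullback.condition, Scheme.Hom.comp_apply, Scheme.Hom.comp_apply]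
      exact x.2)
  have hqW : qW ≫ (f₀ ⁻¹ᵁ V₀).ι = (f₂ ⁻¹ᵁ W).ι ≫ pullback.fst f₀ (D.map φ) := IsOpenImmersion.lift_fac _ _ _
  have hW : IsPullback qW (f₂ ∣_ W) (f₀ ∣_ V₀) (D.map φ ∣_ V₀) := by
    refine IsPullback.of_right ?_ ?_ (isPullback_morphismRestrict f₀ V₀).flip
    · rw [hqW, morphismRestrict_ι]
      exact ((isPullback_morphismRestrict f₂ W).paste_vert (IsPullback.of_hasPullback f₀ (D.map φ)).flip).flip
    · rw [← cancel_mono V₀.ι, Category.assoc, morphismRestrict_ι, reassoc_of% hqW, pullback.condition,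
        Category.assoc, morphismRestrict_ι, morphismRestrict_ι_assoc]
  have hpV : eW.hom ≫ (D.map φ ∣_ V₀) = pV := hVi.isoIsPullback_hom_fst _ _ _
  have h' : IsPullback pX (fi ≫ eW.hom) (f₀ ∣_ V₀) (D.map φ ∣_ V₀) := by
    refine hXi.of_iso (Iso.refl _) (Iso.refl _) eW (Iso.refl _) (by simp) (by simp) (by simp) ?_
    simp [hpV]
  haveI : Flat fi := hflat
  have : f₂ ∣_ W = (hW.isoIsPullback _ _ h').hom ≫ fi ≫ eW.hom := (hW.isoIsPullback_hom_snd _ _ h').symm
  show Flat (f₂ ∣_ W)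
  rw [this]
  infer_instance

end GrothLib.HFlatten4
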